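import Groth.Agent.BlowUpLib.Glue
import Groth.Agent.BlowUpX.Basic
import Groth.Agent.RegBlow6.FlatCentreScheme
import Groth.Agent.OmegaLib.IdealMod
import Groth.Agent.S1500
import Groth.Agent.InvX.Frame

/-!
# An ample family on a blowing up
-/

set_option autoImplicit false
set_option backward.isDefEq.respectTransparency false
set_option backward.isDefEq.respectTransparency.types false
set_option linter.style.haveILetI false

universe u

open CategoryTheory CategoryTheory.Limits AlgebraicGeometry TopologicalSpace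

open Groth.Agent.H23.PicMul

namespace Groth.Agent.AmpleFam17

variable {X X' : Scheme.{u}}

/-- Around a point over an affine open, some section of the exceptional ideal has affine non-vanishing locus. -/
theorem exists_chart_section {I : X.IdealSheafData} {b : X' ⟶ X} (hb : BlowUp.IsBlowUp b I) (U : X.affineOpens)
    (x : X') (hx : b x ∈ U.1) :
    ∃ a : Γ(ClSub.idealMod (I.comap b), b ⁻¹ᵁ U.1),
      x ∈ AmpleX.locus a ∧ IsAffineOpen (AmpleX.locus a) := by
  obtain ⟨g, hg, j, hjo, hxj, hjb⟩ := RegBlow6.exists_chart hb U x hx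
  let E := I.comap b
  have hEW : ∀ (W : X'.affineOpens) (h : W.1 ≤ b ⁻¹ᵁ U.1),
      E.ideal W = (I.ideal U).map (b.appLE U.1 W.1 h).hom := fun W h => ModPairLib.ideal_comap _ b U W h
  have hres : ∀ (W : X'.Opens) (h : W ≤ b ⁻¹ᵁ U.1),
      X'.presheaf.map (homOfLE h).op (b.app U.1 g) = b.appLE U.1 W h g := fun W h => rfl
  have hzero : E.subschemeι.app (b ⁻¹ᵁ U.1) (b.app U.1 g) = 0 := by
    refine E.subscheme.IsSheaf.section_ext fun z hz => ?_
    obtain ⟨_, ⟨W, hW, rfl⟩, hzW, hWU⟩ :=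
      X'.isBasis_affineOpens.exists_subset_of_mem_open (show E.subschemeι z ∈ b ⁻¹ᵁ U.1 from hz) (b ⁻¹ᵁ U.1).2
    have hle : W ≤ b ⁻¹ᵁ U.1 := hWU
    refine ⟨E.subschemeι ⁻¹ᵁ W, E.subschemeι.preimage_mono hle, hzW, ?_⟩
    have hmem : b.appLE U.1 W hle g ∈ E.ideal ⟨W, hW⟩ := by
      rw [hEW ⟨W, hW⟩ hle]
      exact Ideal.mem_map_of_mem _ hg
    rw [← E.ker_subschemeι_app, RingHom.mem_ker, ← hres W hle] at hmem
    refine (congr($(E.subschemeι.naturality (homOfLE hle).op) (b.app U.1 g))).symm.trans ?_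
    exact hmem.trans (map_zero _).symm
  obtain ⟨a, ha⟩ := OmegaLib.exists_idealSect_eq E (b ⁻¹ᵁ U.1) _ hzero
  have haW : ∀ (W : X'.Opens) (h : W ≤ b ⁻¹ᵁ U.1),
      OmegaSh.idealSect E W (AModX.res (ClSub.idealMod E) h a) = b.appLE U.1 W h g := fun W h => by
    rw [← hres W h, ← ha]
    exact OmegaLib.idealSect_map E h a
  have hframe : ∀ (W : X'.affineOpens) (e : Γ(ClSub.idealMod E, W.1)), InvX.IsFrame e →
      OmegaSh.idealSect E W.1 e ∈ nonZeroDivisors Γ(X', W.1) ∧
        E.ideal W = Ideal.span {OmegaSh.idealSect E W.1 e} := by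
    intro W e he
    refine ⟨mem_nonZeroDivisors_iff_right.2 fun r hr => he.coord_unique le_rfl ?_, le_antisymm ?_ ?_⟩
    · rw [AModX.res_self, zero_smul]
      refine OmegaLib.idealSect_injective E W.1 ?_
      rw [OmegaLib.idealSect_smul, hr, map_zero]
    · intro y hy
      obtain ⟨k, rfl⟩ := OmegaLib.exists_of_mem E W y hy
      obtain ⟨r, rfl⟩ := he.exists_coord le_rfl k
      rw [AModX.res_self, OmegaLib.idealSect_smul]
      exact Ideal.mem_span_singleton'.2 ⟨r, rfl⟩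
    · exact (Ideal.span_singleton_le_iff_mem _).2 (OmegaLib.idealSect_mem E W e)
  have hfs : ∀ (W : X'.affineOpens) (h : W.1 ≤ b ⁻¹ᵁ U.1),
      Spec.map (b.appLE U.1 W.1 h) ≫ U.2.fromSpec = W.2.fromSpec ≫ b :=
    fun W h => IsAffineOpen.SpecMap_appLE_fromSpec b U.2 W.2 h
  have hjU : j.opensRange ≤ b ⁻¹ᵁ U.1 := by
    rintro _ ⟨v, rfl⟩
    show b (j v) ∈ U.1
    rw [← Scheme.Hom.comp_apply, hjb, ← SetLike.mem_coe, ← U.2.range_fromSpec]
    exact Set.mem_range_self _
  have hI : PicF.IsInvertible (ClSub.idealMod E) := (S8914.result E).2 hb.1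
  have hlocus : AmpleX.locus a = j.opensRange := by
    refine le_antisymm (fun z hz => ?_) (fun z hz => ?_)
    · obtain ⟨_, ⟨W, hW, rfl⟩, hzW, hWl⟩ :=
        X'.isBasis_affineOpens.exists_subset_of_mem_open hz (AmpleX.locus a).2
      have hle : W ≤ AmpleX.locus a := hWl
      have hWU : W ≤ b ⁻¹ᵁ U.1 := hle.trans (AmpleX.locus_le a)
      obtain ⟨hnz, hspan⟩ := hframe ⟨W, hW⟩ _ (AmpleX.isFrame_res_of_le a hle)
      rw [haW W hWU] at hnz hspan
      obtain ⟨ψ, hψ⟩ := BlowUpLib.exists_hom_affineAlgebra (I.ideal U) ⟨g, hg⟩ (b.appLE U.1 W hWU).hom hnz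
        ((hEW ⟨W, hW⟩ hWU).symm.trans hspan).le
      haveI : Flat hW.fromSpec := inferInstance
      have e : Spec.map (CommRingCat.ofHom ψ) ≫ j = hW.fromSpec := by
        refine BlowUpLib.isBlowUp_hom_ext hb ?_ ?_
        · rw [Category.assoc, hjb, ← Spec.map_comp_assoc, ← hfs ⟨W, hW⟩ hWU, ← CommRingCat.ofHom_comp, hψ]
          rfl
        · rw [Scheme.IdealSheafData.comap_comp]
          exact BlowUpLib.isEffCartier_comap_flat _ hb.1
      obtain ⟨v, hv⟩ : z ∈ Set.range hW.fromSpec := by rw [hW.range_fromSpec]; exact hzW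
      refine ⟨Spec.map (CommRingCat.ofHom ψ) v, ?_⟩
      rw [← Scheme.Hom.comp_apply, e]
      exact hv
    · obtain ⟨V, hzV, e₀, he₀⟩ := InvX.exists_frame hI z
      obtain ⟨_, ⟨W, hW, rfl⟩, hzW, hWle⟩ := X'.isBasis_affineOpens.exists_subset_of_mem_open
        (show z ∈ V ⊓ j.opensRange from ⟨hzV, hz⟩) (V ⊓ j.opensRange).2
      have hWV : W ≤ V := fun w hw => (hWle hw).1
      have hWj : W ≤ j.opensRange := fun w hw => (hWle hw).2
      have hWU : W ≤ b ⁻¹ᵁ U.1 := hWj.trans hjU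
      have he := he₀.res hWV
      obtain ⟨hnz, hspan⟩ := hframe ⟨W, hW⟩ _ he
      let ρ := IsOpenImmersion.lift j hW.fromSpec (by rw [hW.range_fromSpec]; exact hWj)
      let ψ := Spec.preimage ρ
      have hψ : b.appLE U.1 W hWU = CommRingCat.ofHom
          (algebraMap Γ(X, U.1) (BlowUp.affineAlgebra Γ(X, U.1) (I.ideal U) g)) ≫ ψ := by
        refine Spec.map_injective ?_
        rw [← cancel_mono U.2.fromSpec, hfs ⟨W, hW⟩ hWU, Spec.map_comp, Category.assoc, ← hjb,
          Spec.map_preimage, IsOpenImmersion.lift_fac_assoc]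
      have hle : E.ideal ⟨W, hW⟩ ≤ Ideal.span {b.appLE U.1 W hWU g} := by
        rw [hEW ⟨W, hW⟩ hWU, Ideal.map_le_iff_le_comap]
        intro y hy
        refine Ideal.mem_span_singleton'.2 ⟨ψ.hom (BlowUpLib.frac (I.ideal U) ⟨y, hy⟩ ⟨g, hg⟩), ?_⟩
        rw [hψ]
        show ψ.hom _ * ψ.hom _ = ψ.hom _
        rw [← map_mul]
        exact congrArg _ (BlowUpLib.frac_mul (I.ideal U) ⟨y, hy⟩ ⟨g, hg⟩)
      obtain ⟨c, hc⟩ := he.exists_coord le_rfl (AModX.res (ClSub.idealMod E) hWU a)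
      rw [AModX.res_self] at hc
      obtain ⟨r, hr⟩ := Ideal.mem_span_singleton'.1 (hle (OmegaLib.idealSect_mem E ⟨W, hW⟩ _ :
        OmegaSh.idealSect E W (AModX.res (ClSub.idealMod E) hWV e₀) ∈ E.ideal ⟨W, hW⟩))
      rw [← haW W hWU, hc, OmegaLib.idealSect_smul] at hr
      have hu : IsUnit c := by
        refine IsUnit.of_mul_eq_one_right r (sub_eq_zero.1 ?_)
        refine mem_nonZeroDivisors_iff_right.1 hnz _ ?_
        rw [sub_mul, mul_assoc, hr, one_mul, sub_self]
      refine AmpleX.le_locus a hWU ?_ hzW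
      rw [hc]
      exact he.isUnit_smul hu
  exact ⟨a, hlocus.ge hxj, hlocus ▸ isAffineOpen_opensRange j⟩

/-- A member of an ample family from a section with affine locus on the complement of a Cartier divisor. -/
theorem exists_member [CompactSpace X] [QuasiSeparatedSpace X] {L P : X.Modules} (hL : PicF.IsInvertible L)
    (hP : PicF.IsInvertible P) (t : Γ(P, ⊤)) (a : Γ(L, AmpleX.locus t)) {x : X} (hxa : x ∈ AmpleX.locus a)
    (haff : IsAffineOpen (AmpleX.locus a)) :
    ∃ (Q : X.Modules) (n : ℕ) (s : Coh.structureModule X ⟶ CohB1.tensorPow Q n),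
      PicF.IsInvertible Q ∧ 1 ≤ n ∧ x ∈ CohB1.genLocus (CohB1.tensorPow Q n) s ∧
        IsAffineOpen (CohB1.genLocus (CohB1.tensorPow Q n) s) := by
  let s' : Coh.structureModule X ⟶ P := InvX.ofSect t
  have hG : CohB1.genLocus P s' = AmpleX.locus t := by
    rw [AmpleX.genLocus_eq_locus, InvX.one_ofSect]
  let a' : Γ(L, CohB1.genLocus P s') := AModX.res _ hG.le a
  have hla : AmpleX.locus a' = AmpleX.locus a := by
    rw [AmpleX.locus_res, inf_eq_left.2]
    exact (AmpleX.locus_le a).trans hG.ge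
  obtain ⟨N, hN⟩ := AmpleX.exists_extend' (ProjUPX.isQCoh_of_isInvertible hL) hP s' a'
  obtain ⟨T, hT⟩ := hN N le_rfl
  have hfr := AmpleX.isFrame_res_of_le (InvX.one s') (AmpleX.genLocus_eq_locus s').le
  have hPN := InvX.isInvertible_tensorPow hP N
  have h1 : AmpleX.locus T ⊓ CohB1.genLocus P s' = AmpleX.locus a := by
    have h2 := congrArg AmpleX.locus hT
    rw [AmpleX.locus_res, AmpleX.locus_tmul hL hPN] at h2
    rw [h2, ← hla]
    refine inf_eq_left.2 ((AmpleX.locus_le _).trans (AmpleX.le_locus _ le_rfl ?_))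
    rw [AModX.res_self]
    exact AmpleX.isFrame_powElt hfr N
  let Q := CohB1.tensorMod (CohB1.tensorMod L (CohB1.tensorPow P N)) P
  have hQ : PicF.IsInvertible Q := H23.PicMul.isInvertible_tensor (H23.PicMul.isInvertible_tensor hL hPN) hP
  obtain ⟨c, hc⟩ := AmpleX.exists_locus_cl (N := CohB1.tensorPow Q 1)
    (show PicF.cl Q = _ by rw [H23.PicMul.cl_tensorPow, pow_one]) (InvX.tmul T t : Γ(Q, ⊤))
  have h4 : CohB1.genLocus _ (InvX.ofSect c) = AmpleX.locus a := by
    rw [AmpleX.genLocus_eq_locus, InvX.one_ofSect, hc,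
      AmpleX.locus_tmul (H23.PicMul.isInvertible_tensor hL hPN) hP, ← h1]
    congr 1
    exact hG.symm
  exact ⟨Q, 1, InvX.ofSect c, hQ, le_rfl, h4.ge hxa, h4 ▸ haff⟩

end Groth.Agent.AmpleFam17
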