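import Groth.Agent.AmpleFam17.Basic
import Groth.Agent.FComplLib.IdealComap
import Groth.Agent.S9823

/-!
# Blowing up to get an ample family
-/

set_option autoImplicit false
set_option backward.isDefEq.respectTransparency false
set_option backward.isDefEq.respectTransparency.types false
set_option linter.style.haveILetI false

universe u

open CategoryTheory CategoryTheory.Limits AlgebraicGeometry

namespace Groth.Agent.AmpleFam17

/-- A finite product of admissible centres. -/
theorem exists_product {X : Scheme.{u}} (W : X.Opens) : ∀ {m : ℕ} (J : Fin m → X.IdealSheafData),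
    (∀ i, BlowUp.IsAdmissibleFor W (J i)) → ∃ I : X.IdealSheafData, BlowUp.IsAdmissibleFor W I ∧
      ∀ (Y : Scheme.{u}) (b : Y ⟶ X), BlowUp.IsEffCartierIdeal (I.comap b) →
        ∀ i, BlowUp.IsEffCartierIdeal ((J i).comap b)
  | 0, _, _ => ⟨⊤, ⟨fun V => by
      rw [Scheme.IdealSheafData.ideal_top, Pi.top_apply]
      exact ⟨{1}, by simp⟩, by simp⟩, fun _ _ _ i => i.elim0⟩
  | m + 1, J, hJ => by
    obtain ⟨I, ⟨hIf, hId⟩, hI⟩ := exists_product W (fun i => J i.succ) (fun i => hJ _)
    refine ⟨J 0 * I, ⟨fun V => ?_, ?_⟩, fun Y b hb i => ?_⟩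
    · rw [Scheme.IdealSheafData.ideal_mul, Pi.mul_apply]
      exact Submodule.FG.mul ((hJ 0).1 V) (hIf V)
    · rw [Scheme.IdealSheafData.support_mul, TopologicalSpace.Closeds.coe_sup]
      exact (hJ 0).2.union_left hId
    · rw [Groth.Agent.FComplLib.comap_mul] at hb
      refine Fin.cases (Groth.Agent.BlowUpX.isEffCartier_left_of_mul hb) (fun k => hI Y b ?_ k) i
      rw [mul_comm] at hb
      exact Groth.Agent.BlowUpX.isEffCartier_left_of_mul hb

/-- Blowing up an admissible centre produces an ample family, given affine opens covering the scheme and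
containing a given open. -/
theorem exists_blowUp_hasAmpleFamily {X : Scheme.{u}} [CompactSpace X] [QuasiSeparatedSpace X] (W : X.Opens) {m : ℕ}
    (U : Fin m → X.Opens) (hU : ∀ i, IsAffineOpen (U i)) (hWU : ∀ i, W ≤ U i) (hcov : ∀ x : X, ∃ i, x ∈ U i) :
    ∃ (I : X.IdealSheafData) (X' : Scheme.{u}) (b : X' ⟶ X), BlowUp.IsAdmissibleFor W I ∧ BlowUp.IsBlowUp b I ∧
      IsProper b ∧ MoreMor.HasAmpleFamily X' := by
  classical
  choose J hJf hJs using fun i => (Groth.Agent.S9823.result X (U i)).1 (hU i).isCompact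
  obtain ⟨I, hI, hJI⟩ := exists_product W J (fun i => ⟨hJf i, by
    rw [hJs i]
    exact Set.disjoint_left.2 fun x hx hxW => hx (hWU i hxW)⟩)
  obtain ⟨X', b, hb⟩ := Groth.Agent.BlowUpLib.exists_blowUp (C := I)
  haveI := Groth.Agent.BlowUpLib.isProper_of_isBlowUp (C := I) hb hI.1
  haveI : CompactSpace X' := QuasiCompact.compactSpace_of_compactSpace b
  haveI : QuasiSeparatedSpace X' := quasiSeparatedSpace_of_quasiSeparated b
  refine ⟨I, X', b, hI, hb, inferInstance, inferInstance, fun x => ?_⟩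
  obtain ⟨i, hi⟩ := hcov (b x)
  obtain ⟨P, hP, t, ht⟩ := Groth.Agent.S1500.exists_boundary ((J i).comap b) (hJI X' b hb.1 i)
  have ht' : Groth.Agent.AmpleX.locus t = b ⁻¹ᵁ U i := by
    rw [ht]
    refine TopologicalSpace.Opens.ext (Set.ext fun z => ?_)
    show z ∉ ((J i).comap b).support ↔ b z ∈ U i
    rw [Scheme.IdealSheafData.support_comap]
    show ¬ (b z ∈ ((J i).support : Set X)) ↔ _
    rw [hJs i, Set.mem_compl_iff, not_not]
    rfl
  obtain ⟨a, hxa, haff⟩ := Groth.Agent.AmpleFam17.exists_chart_section hb ⟨U i, hU i⟩ x hi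
  let a' : Γ(ClSub.idealMod (I.comap b), Groth.Agent.AmpleX.locus t) :=
    Groth.Agent.AModX.res (ClSub.idealMod (I.comap b)) ht'.le a
  have hla : Groth.Agent.AmpleX.locus a' = Groth.Agent.AmpleX.locus a := by
    rw [Groth.Agent.AmpleX.locus_res, inf_eq_left.2]
    exact (Groth.Agent.AmpleX.locus_le a).trans ht'.ge
  exact Groth.Agent.AmpleFam17.exists_member ((Groth.Agent.S8914.result _).2 hb.1) hP t a' (hla.ge hxa)
    (hla ▸ haff)

end Groth.Agent.AmpleFam17
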