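import Groth.Agent.AmpleFam17.BlowUp
import Groth.Agent.Chow17.Strata
import Groth.Agent.S17880
import Groth.Agent.S7184
import Mathlib.AlgebraicGeometry.Noetherian

/-!
# Completely decomposed proper covers with an ample family
-/

set_option autoImplicit false
set_option backward.isDefEq.respectTransparency false
set_option backward.isDefEq.respectTransparency.types false
set_option linter.style.haveILetI false

universe u

open CategoryTheory CategoryTheory.Limits AlgebraicGeometry

namespace Groth.Agent.AmpleFam17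

/-- A Noetherian scheme has a completely decomposed proper cover with an ample family. -/
theorem exists_cdCover_noetherian (X : Scheme.{u}) [IsLocallyNoetherian X] [CompactSpace X] :
    ∃ (Y : Scheme.{u}) (f : Y ⟶ X), IsProper f ∧ LocallyOfFinitePresentation f ∧
      (∀ x : X, ∃ y : Y, f y = x ∧ Function.Bijective (f.residueFieldMap y)) ∧ MoreMor.HasAmpleFamily Y := by
  obtain ⟨X₁, d, W, m, U, hd, hW, -, hU, hWU, hcov, hlift⟩ := Chow17.exists_strata_cover X
  haveI := hd
  haveI : CompactSpace X₁ := QuasiCompact.compactSpace_of_compactSpace d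
  haveI : QuasiSeparatedSpace X₁ := quasiSeparatedSpace_of_quasiSeparated d
  obtain ⟨I, Y, b, hI, hb, hbp, hfam⟩ := exists_blowUp_hasAmpleFamily W U hU hWU hcov
  haveI := hbp
  refine ⟨Y, b ≫ d, inferInstance, LocallyOfFinitePresentation.iff_locallyOfFiniteType.2 inferInstance,
    fun x => ?_, hfam⟩
  obtain ⟨w, hwW, hdw, hsurj⟩ := hlift x
  haveI hiso := BlowUpX.isIso_restrict hb
  have hw : w ∈ I.support.compl := fun h => Set.disjoint_left.1 hI.2 h hwW
  let V : X₁.Opens := I.support.compl
  haveI : Surjective (b ∣_ V) := inferInstance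
  obtain ⟨y, hy⟩ := (b ∣_ V).surjective ⟨w, hw⟩
  have hby : b y.1 = w := by
    have h1 := congr($(morphismRestrict_ι b V) y)
    rw [Scheme.Hom.comp_apply, Scheme.Hom.comp_apply, hy] at h1
    exact h1.symm
  refine ⟨y.1, by rw [Scheme.Hom.comp_apply, hby, hdw], ?_⟩
  refine Chow17.bijective_residueFieldMap _ _ ?_
  have hiso' : IsIso (b.stalkMap y.1) := by
    have h1 : IsIso (((b ⁻¹ᵁ V).ι ≫ b).stalkMap y) := by
      rw [Scheme.Hom.stalkMap_congr_hom _ ((b ∣_ V) ≫ V.ι) (morphismRestrict_ι b V).symm, Scheme.Hom.stalkMap_comp]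
      infer_instance
    rw [Scheme.Hom.stalkMap_comp] at h1
    exact @IsIso.of_isIso_comp_right _ _ _ _ _ _ _ inferInstance h1
  have hd' : Function.Surjective (d.stalkMap (b y.1)) := by rw [hby]; exact hsurj
  haveI := hiso'
  rw [Scheme.Hom.stalkMap_comp]
  exact (ConcreteCategory.bijective_of_isIso (b.stalkMap y.1)).2.comp hd'

/-- Every quasi-compact quasi-separated scheme has a completely decomposed proper finitely presented cover with an
ample family. -/
theorem exists_cdCover (X : Scheme.{u}) [CompactSpace X] [QuasiSeparatedSpace X] :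
    ∃ (Y : Scheme.{u}) (f : Y ⟶ X), IsProper f ∧ LocallyOfFinitePresentation f ∧
      (∀ x : X, ∃ y : Y, f y = x ∧ Function.Bijective (f.residueFieldMap y)) ∧ MoreMor.HasAmpleFamily Y := by
  obtain ⟨X₀, g, h, hg, hh, hhc, -, -, -⟩ := S17880.result (specULiftZIsTerminal.from X)
  haveI := hg
  haveI := hh
  haveI := hhc
  haveI : IsNoetherianRing (ULift.{u} ℤ) :=
    isNoetherianRing_of_ringEquiv ℤ ULift.ringEquiv.symm
  haveI : IsLocallyNoetherian X₀ := LocallyOfFiniteType.isLocallyNoetherian h
  haveI : CompactSpace X₀ := QuasiCompact.compactSpace_of_compactSpace h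
  obtain ⟨Y₀, f₀, hp, hfp, hcd, hfam⟩ := exists_cdCover_noetherian X₀
  haveI := hp
  haveI := hfp
  refine ⟨pullback g f₀, pullback.fst g f₀, inferInstance, inferInstance, fun x => ?_,
    S7184.result (pullback.snd g f₀) (Or.inl (MorphismProperty.pullback_snd g f₀ hg)) hfam⟩
  obtain ⟨y₀, hy₀, hbij⟩ := hcd (g x)
  haveI : IsIso (f₀.residueFieldMap y₀) := (ConcreteCategory.isIso_iff_bijective _).2 hbij
  let e : Y₀.residueField y₀ ⟶ X.residueField x :=
    inv (f₀.residueFieldMap y₀) ≫ (X₀.residueFieldCongr hy₀).hom ≫ g.residueFieldMap x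
  let s : Spec (X.residueField x) ⟶ pullback g f₀ :=
    pullback.lift (X.fromSpecResidueField x) (Spec.map e ≫ Y₀.fromSpecResidueField y₀) (by
      rw [Category.assoc, ← Scheme.Hom.SpecMap_residueFieldMap_fromSpecResidueField,
        ← Scheme.Hom.SpecMap_residueFieldMap_fromSpecResidueField, ← Spec.map_comp_assoc]
      simp only [e, IsIso.hom_inv_id_assoc, Spec.map_comp, Category.assoc,
        Scheme.residueFieldCongr_fromSpecResidueField])
  let pt := IsLocalRing.closedPoint (X.residueField x)
  have hs : s ≫ pullback.fst g f₀ = X.fromSpecResidueField x := pullback.lift_fst _ _ _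
  have hz : pullback.fst g f₀ (s pt) = x := by
    rw [← Scheme.Hom.comp_apply, hs]
    exact Scheme.fromSpecResidueField_apply x _
  refine ⟨s pt, hz, RingHom.injective _, fun v => ?_⟩
  have h1 : Function.Surjective ((s ≫ pullback.fst g f₀).residueFieldMap pt) := by
    rw [hs]
    exact (Chow17.bijective_residueFieldMap _ _ ((X.fromSpecResidueField x).stalkMap_surjective pt)).2
  rw [Scheme.residueFieldMap_comp] at h1
  obtain ⟨u, hu⟩ := h1 (s.residueFieldMap pt v)
  exact ⟨u, RingHom.injective (s.residueFieldMap pt).hom hu⟩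

end Groth.Agent.AmpleFam17
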